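import Groth.Agent.L09.FormalKer.Basic
import Groth.Agent.L09.IndLan.QCohFp
import Groth.Agent.L12.Algz.Compl
import Groth.Agent.L16.QCohNoeth.Basic

/-!
# Kernels in the category of coherent formal modules
-/

set_option autoImplicit false
set_option linter.style.haveILetI false
set_option linter.unusedSectionVars false
set_option backward.isDefEq.respectTransparency false
set_option backward.isDefEq.respectTransparency.types false

universe u

open CategoryTheory CategoryTheory.Limits AlgebraicGeometry TopologicalSpace Opposite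

noncomputable section

namespace Groth.L09.FormalKer

open Formal (smulMod smulFamily modPow modPowπ)
open Groth.L16
open Groth.L09.IndLan.QC (cohM cohι)

variable {X : Scheme.{u}} [AlgebraicGeometry.IsNoetherian X]

/-- Coherent modules are Noetherian objects among themselves. -/
theorem isNoetherianObject_cohM (M : (cohM X).FullSubcategory) : IsNoetherianObject M := by
  haveI := QCohNoeth.isNoetherianObject_of_isCoh ((cohι X).obj M) M.property
  rw [isNoetherianObject_iff_monotone_chain_condition]
  intro f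
  let g : ℕ →o Subobject ((cohι X).obj M) :=
    ⟨fun n => Subobject.mk ((cohι X).map (f n).arrow), fun a b hab =>
      Subobject.mk_le_mk_of_comm ((cohι X).map (Subobject.ofLE _ _ (f.monotone hab)))
        (by rw [← Functor.map_comp, Subobject.ofLE_arrow])⟩
  obtain ⟨n, hn⟩ := monotone_chain_condition_of_isNoetherianObject g
  refine ⟨n, fun m hm => le_antisymm (f.monotone hm) ?_⟩
  let e := Subobject.isoOfMkEqMk _ _ (show Subobject.mk ((cohι X).map (f m).arrow) = Subobject.mk ((cohι X).map (f n).arrow) from (hn m hm).symm)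
  refine Subobject.le_of_comm ((cohι X).preimage e.hom) ((cohι X).map_injective ?_)
  rw [Functor.map_comp, Functor.map_preimage]
  exact Subobject.ofMkLEMk_comp _

variable {A A₀ : Type u} [CommRing A] [CommRing A₀] (φ : A₀ →+* A) [X.Over (Spec (CommRingCat.of A))]
  [X.Over (Spec (CommRingCat.of A₀))]
  (hc : (X ↘ Spec (CommRingCat.of A)) ≫ Spec.map (CommRingCat.ofHom φ) = X ↘ Spec (CommRingCat.of A₀))
  {I : Ideal A} {J : Ideal A₀} (hJ : J.map φ ≤ I)
  (hkill : ∀ (m : ℕ) {M T : X.Modules} (f : M ⟶ T), Kills ((J.map φ) ^ m) f → Kills (I ^ m) f)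
include hc hJ hkill

theorem kills_iff (m : ℕ) {M T : X.Modules} (f : M ⟶ T) : Kills (I ^ m) f ↔ Kills (J ^ m) f := by
  refine ⟨fun h a ha => ?_, fun h => hkill m f ?_⟩
  · rw [Groth.L12.Algz.smulMod_base φ hc]
    refine h _ (Ideal.pow_right_mono hJ m ?_)
    rw [← Ideal.map_pow]
    exact Ideal.mem_map_of_mem φ ha
  · rw [← Ideal.map_pow]
    exact Groth.L12.Algz.smul_comp_eq_zero_map φ hc f h

theorem homKilledBy_iff (m : ℕ) {M T : (cohM X).FullSubcategory} (f : M ⟶ T) :
    ARSys.HomKilledBy (J ^ m) f ↔ Kills (I ^ m) f.hom := by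
  rw [kills_iff φ hc hJ hkill]
  exact ⟨fun h a ha => congrArg InducedCategory.Hom.hom (h a ha), fun h a ha => InducedCategory.hom_ext (h a ha)⟩

theorem killedBy_iff (m : ℕ) (M : (cohM X).FullSubcategory) :
    ARSys.KilledBy (J ^ m) M ↔ Formal.KilledBy (I ^ m) M.obj :=
  (homKilledBy_iff φ hc hJ hkill m (𝟙 M)).trans kills_id

theorem isQuot_iff (m : ℕ) {M Q : (cohM X).FullSubcategory} (p : M ⟶ Q) :
    ARSys.IsQuot (J ^ m) p ↔ IsModQuot (I ^ m) p.hom := by
  constructor
  · rintro ⟨hQ, hu⟩
    rw [killedBy_iff φ hc hJ hkill] at hQ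
    have hp : Kills (I ^ m) p.hom := fun a ha => by
      rw [Rees.smulMod_naturality, hQ a ha, comp_zero]
    haveI := Existence.epi_modPowπ I m M.obj
    obtain ⟨r, hr⟩ := Existence.modPow_desc I p.hom hp
    let P : (cohM X).FullSubcategory := ⟨modPow I m M.obj, (Exist.modPow_spec I M.property m).1⟩
    let π : M ⟶ P := ObjectProperty.homMk (modPowπ I m M.obj)
    obtain ⟨s, hs, -⟩ := hu P π ((homKilledBy_iff φ hc hJ hkill m π).2 fun a ha => Rees.smulMod_modPowπ I M.obj ha)
    have hs' : p.hom ≫ s.hom = modPowπ I m M.obj := congrArg InducedCategory.Hom.hom hs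
    have hsr : s.hom ≫ r = 𝟙 Q.obj := by
      have := (hu Q p ((homKilledBy_iff φ hc hJ hkill m p).2 hp)).unique
        (y₁ := s ≫ ObjectProperty.homMk r) (y₂ := 𝟙 Q)
        (InducedCategory.hom_ext (by
          show p.hom ≫ s.hom ≫ r = p.hom
          rw [reassoc_of% hs', hr]))
        (Category.comp_id _)
      exact congrArg InducedCategory.Hom.hom this
    refine ⟨hQ, ⟨fun u v huv => ?_⟩, hp, fun T t ht => ?_⟩
    · have h1 : r ≫ u = r ≫ v := by
        rw [← cancel_epi (modPowπ I m M.obj), reassoc_of% hr, huv, reassoc_of% hr]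
      have h2 := congrArg (s.hom ≫ ·) h1
      simpa only [reassoc_of% hsr] using h2
    · obtain ⟨t', ht'⟩ := Existence.modPow_desc I t ht
      exact ⟨s.hom ≫ t', by rw [reassoc_of% hs', ht']⟩
  · rintro ⟨hQ, hepi, -, hd⟩
    haveI := hepi
    refine ⟨(killedBy_iff φ hc hJ hkill m Q).2 hQ, fun Y f hf => ?_⟩
    obtain ⟨t, ht⟩ := hd Y.obj f.hom ((homKilledBy_iff φ hc hJ hkill m f).1 hf)
    refine ⟨ObjectProperty.homMk t, InducedCategory.hom_ext ht, fun y hy => InducedCategory.hom_ext ?_⟩
    rw [← cancel_epi p.hom]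
    exact (congrArg InducedCategory.Hom.hom hy).trans ht.symm

/-- The coherent system of a formal module. -/
def toAdicObj (G : Formal2.CohFormalCat I X) : Groth.L28.AR.AdicCat (C := (cohM X).FullSubcategory) J where
  obj := ObjectProperty.lift (cohM X) G.obj fun n => G.property.1 n.unop
  property := by
    refine ⟨⟨fun n => (killedBy_iff φ hc hJ hkill _ _).2 (G.property.2.1 n), fun n m h => ?_⟩,
      fun n => isNoetherianObject_cohM _⟩
    rw [isQuot_iff φ hc hJ hkill]
    show IsModQuot (I ^ (n + 1)) (G.obj.map (homOfLE h).op)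
    induction m, h using Nat.le_induction with
    | base =>
      rw [show (homOfLE (le_refl n)).op = 𝟙 (op n) from rfl, G.obj.map_id]
      exact IsModQuot.self (G.property.2.1 n)
    | succ m hm ih =>
      rw [show (homOfLE (Nat.le_succ_of_le hm)).op = (homOfLE (Nat.le_succ m)).op ≫ (homOfLE hm).op from rfl,
        G.obj.map_comp]
      exact IsModQuot.comp (Ideal.pow_le_pow_right (by omega))
        (isModQuot_of_isIso_desc _ (G.property.2.1 m) (G.property.2.2 m)) ih

/-- Formal modules to adic systems. -/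
def toAdic : Formal2.CohFormalCat I X ⥤ Groth.L28.AR.AdicCat (C := (cohM X).FullSubcategory) J where
  obj := toAdicObj φ hc hJ hkill
  map f := ObjectProperty.homMk
    { app := fun n => ObjectProperty.homMk (f.hom.app n)
      naturality := fun _ _ g => InducedCategory.hom_ext (f.hom.naturality g) }

theorem isEquivalence_toAdic : (toAdic φ hc hJ hkill).IsEquivalence := by
  haveI : (toAdic φ hc hJ hkill).Faithful := ⟨fun {G H f g} h => InducedCategory.hom_ext (NatTrans.ext (funext fun n =>
    congrArg (fun t => InducedCategory.Hom.hom (t.hom.app n)) h))⟩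
  haveI : (toAdic φ hc hJ hkill).Full := ⟨fun {G H} f => ⟨ObjectProperty.homMk
    { app := fun n => (f.hom.app n).hom
      naturality := fun _ _ g => congrArg InducedCategory.Hom.hom (f.hom.naturality g) }, rfl⟩⟩
  haveI : (toAdic φ hc hJ hkill).EssSurj := ⟨fun P => by
    let G : ℕᵒᵖ ⥤ X.Modules := P.obj ⋙ (cohM X).ι
    have hG : Formal.IsCohFormal I G := ⟨fun n => (P.obj.obj (op n)).property,
      fun n => (killedBy_iff φ hc hJ hkill _ _).1 (P.property.1.1 n),
      fun n => isIso_desc_of_isModQuot _ ((isQuot_iff φ hc hJ hkill (n + 1) _).1 (P.property.1.2 n (n + 1) (Nat.le_succ n)))⟩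
    exact ⟨⟨G, hG⟩, ⟨ObjectProperty.isoMk _ (NatIso.ofComponents (fun n => Iso.refl _) fun g => by
      exact InducedCategory.hom_ext ((Category.comp_id _).trans (Category.id_comp _).symm))⟩⟩⟩
  exact { }

theorem hasKernels_of_base [IsNoetherianRing A₀] : HasKernels (Formal2.CohFormalCat I X) := by
  haveI := Groth.L28.AR.hasKernels_adicCat (C := (cohM X).FullSubcategory) (J := J)
  haveI := isEquivalence_toAdic φ hc hJ hkill
  refine ⟨fun {G H} f => ?_⟩
  let Φ := toAdic φ hc hJ hkill
  haveI : Φ.PreservesZeroMorphisms := Functor.preservesZeroMorphisms_of_full Φ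
  let e : parallelPair f 0 ⋙ Φ ≅ parallelPair (Φ.map f) 0 :=
    parallelPair.ext (Iso.refl _) (Iso.refl _) (by simp) (by simp)
  haveI : HasLimit (parallelPair f 0 ⋙ Φ) := hasLimit_of_iso e.symm
  exact hasLimit_of_created (parallelPair f 0) Φ

end Groth.L09.FormalKer
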