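import Groth.Agent.L16.Exist.Systems
import Groth.Agent.L28.AR.Cat
import Groth.Prelude.Def_KLin
import Groth.Prelude.Def_Formal2
import Mathlib.RingTheory.Polynomial.Basic

/-!
# Coherent formal modules as adic systems over a Noetherian base
-/

set_option autoImplicit false
set_option linter.style.haveILetI false
set_option linter.unusedSectionVars false
set_option backward.isDefEq.respectTransparency false
set_option backward.isDefEq.respectTransparency.types false

universe u

open CategoryTheory CategoryTheory.Limits AlgebraicGeometry TopologicalSpace Opposite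

noncomputable section

namespace Groth.L09.FormalKer

open Formal (smulMod smulFamily modPow modPowπ)
open Groth.L16
open AffineBC (scal)

variable {A : Type u} [CommRing A] {X : Scheme.{u}} [X.Over (Spec (CommRingCat.of A))]

/-- A map is killed by an ideal. -/
def Kills (I : Ideal A) {M T : X.Modules} (f : M ⟶ T) : Prop := ∀ a ∈ I, smulMod A M a ≫ f = 0

theorem Kills.mono {I J : Ideal A} {M T : X.Modules} {f : M ⟶ T} (h : Kills J f) (hle : I ≤ J) : Kills I f :=
  fun a ha => h a (hle ha)

theorem kills_id {I : Ideal A} {M : X.Modules} : Kills I (𝟙 M) ↔ Formal.KilledBy I M :=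
  ⟨fun h a ha => (Category.comp_id _).symm.trans (h a ha), fun h a ha => (Category.comp_id _).trans (h a ha)⟩

/-- The formal quotient condition. -/
def IsModQuot (I : Ideal A) {M Q : X.Modules} (p : M ⟶ Q) : Prop :=
  Formal.KilledBy I Q ∧ Epi p ∧ Kills I p ∧ ∀ (T : X.Modules) (t : M ⟶ T), Kills I t → ∃ t', p ≫ t' = t

theorem isModQuot_of_isIso_desc {I : Ideal A} {M Q : X.Modules} (p : M ⟶ Q) (hQ : Formal.KilledBy I Q)
    (h : ∃ h : smulFamily I M ≫ p = 0, IsIso (cokernel.desc _ _ h)) : IsModQuot I p := by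
  obtain ⟨h0, hiso⟩ := h
  have hp : p = cokernel.π (smulFamily I M) ≫ cokernel.desc _ _ h0 := (cokernel.π_desc _ _ _).symm
  refine ⟨hQ, ?_, fun a ha => ?_, fun T t ht => ?_⟩
  · rw [hp]
    exact epi_comp _ _
  · have h1 := congrArg (fun z => Sigma.ι (fun _ : I => M) ⟨a, ha⟩ ≫ z) h0
    simp only [smulFamily, comp_zero, Sigma.ι_desc_assoc] at h1
    exact h1
  · have h1 : smulFamily I M ≫ t = 0 := Sigma.hom_ext _ _ fun a => by
      rw [comp_zero, smulFamily, Sigma.ι_desc_assoc]
      exact ht a.1 a.2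
    haveI := hiso
    refine ⟨inv (cokernel.desc _ _ h0) ≫ cokernel.desc _ _ h1, ?_⟩
    calc p ≫ inv (cokernel.desc _ _ h0) ≫ cokernel.desc _ _ h1
        = (cokernel.π (smulFamily I M) ≫ cokernel.desc _ _ h0) ≫ inv (cokernel.desc _ _ h0) ≫
            cokernel.desc _ _ h1 := congrArg (· ≫ _) hp
      _ = t := by rw [Category.assoc, IsIso.hom_inv_id_assoc, cokernel.π_desc]

theorem isIso_desc_of_isModQuot {I : Ideal A} {M Q : X.Modules} (p : M ⟶ Q) (hp : IsModQuot I p) :
    ∃ h : smulFamily I M ≫ p = 0, IsIso (cokernel.desc _ _ h) := by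
  obtain ⟨-, hepi, hk, hd⟩ := hp
  have h0 : smulFamily I M ≫ p = 0 := Sigma.hom_ext _ _ fun a => by
    rw [comp_zero, smulFamily, Sigma.ι_desc_assoc]
    exact hk a.1 a.2
  obtain ⟨s, hs⟩ := hd _ (cokernel.π (smulFamily I M)) fun a ha => by
    have h1 := congrArg (fun z => Sigma.ι (fun _ : I => M) ⟨a, ha⟩ ≫ z) (cokernel.condition (smulFamily I M))
    simp only [smulFamily, comp_zero, Sigma.ι_desc_assoc] at h1
    exact h1
  refine ⟨h0, ⟨s, ?_, ?_⟩⟩
  · rw [← cancel_epi (cokernel.π (smulFamily I M)), cokernel.π_desc_assoc, hs, Category.comp_id]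
  · rw [← cancel_epi p, reassoc_of% hs, cokernel.π_desc, Category.comp_id]

theorem IsModQuot.comp {I J : Ideal A} (hJI : J ≤ I) {M N Q : X.Modules} {p : M ⟶ N} {q : N ⟶ Q}
    (hp : IsModQuot J p) (hq : IsModQuot I q) : IsModQuot I (p ≫ q) := by
  haveI := hp.2.1
  haveI := hq.2.1
  refine ⟨hq.1, epi_comp _ _, fun a ha => ?_, fun T t ht => ?_⟩
  · rw [← Category.assoc, Rees.smulMod_naturality, Category.assoc, hq.2.2.1 a ha, comp_zero]
  · obtain ⟨t', rfl⟩ := hp.2.2.2 T t (ht.mono hJI)
    obtain ⟨t'', rfl⟩ := hq.2.2.2 T t' fun a ha => by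
      rw [← cancel_epi p, ← Category.assoc, ← Rees.smulMod_naturality, Category.assoc, ht a ha, comp_zero]
    exact ⟨t'', Category.assoc _ _ _⟩

theorem IsModQuot.self {I : Ideal A} {M : X.Modules} (h : Formal.KilledBy I M) : IsModQuot I (𝟙 M) :=
  ⟨h, inferInstance, kills_id.2 h, fun _ t _ => ⟨t, Category.id_comp t⟩⟩

variable [AlgebraicGeometry.IsNoetherian X]

variable (X) in
/-- On a Noetherian scheme finitely many elements of an ideal suffice. -/
theorem exists_fin_kills (I : Ideal A) : ∃ (r : ℕ) (g : Fin r → A), Ideal.span (Set.range g) ≤ I ∧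
    ∀ (m : ℕ) {M T : X.Modules} (f : M ⟶ T), Kills (Ideal.span (Set.range g) ^ m) f → Kills (I ^ m) f := by
  classical
  obtain ⟨t, ht⟩ := HomSh.exists_finite_affine_cover X
  have hfin : ∀ U : X.affineOpens, ∃ S : Finset A, (S : Set A) ⊆ I ∧
      I.map (scal A X U.1) ≤ (Ideal.span (S : Set A)).map (scal A X U.1) := by
    intro U
    haveI : IsNoetherianRing Γ(X, U.1) := IsLocallyNoetherian.component_noetherian U
    obtain ⟨s, hsI, hs⟩ := Submodule.fg_span_iff_fg_span_finset_subset _ |>.1
      (IsNoetherian.noetherian (Ideal.span (scal A X U.1 '' (I : Set A))))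
    choose c hc hce using fun x : s => hsI x.2
    refine ⟨Finset.univ.image c, fun a ha => ?_, hs.le.trans (Ideal.span_le.2 fun x hx => ?_)⟩
    · obtain ⟨x, -, rfl⟩ := Finset.mem_image.1 (Finset.mem_coe.1 ha)
      exact hc x
    · have e : scal A X U.1 (c ⟨x, hx⟩) = x := hce ⟨x, hx⟩
      exact e ▸ Ideal.mem_map_of_mem _ (Ideal.subset_span (by simp))
  choose S hS hS' using hfin
  let S₀ := t.biUnion S
  let g : Fin S₀.card → A := fun i => (S₀.equivFin.symm i).1
  have hg : Set.range g = S₀ := by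
    rw [show g = Subtype.val ∘ S₀.equivFin.symm from rfl, Set.range_comp, Equiv.range_eq_univ,
      Set.image_univ, Subtype.range_coe_subtype]
    rfl
  refine ⟨_, g, ?_, fun m M T f hf => fun a ha => ?_⟩
  · rw [hg]
    refine Ideal.span_le.2 fun a ha => ?_
    obtain ⟨U, -, hU⟩ := Finset.mem_biUnion.1 (Finset.mem_coe.1 ha)
    exact hS U hU
  refine Exist.hom_eq_zero_of_cover _ (fun U : t => U.1.1) (fun x => by
    obtain ⟨U, hU, hx⟩ := ht x; exact ⟨⟨U, hU⟩, hx⟩) fun U W _ hWU x => ?_
  show f.app W ((smulMod A M a).app W x) = 0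
  rw [HomSh.smulMod_app]
  have hW : scal A X W = (X.presheaf.map (homOfLE hWU).op).hom.comp (scal A X U.1.1) :=
    RingHom.ext fun b => (Exist.scal_res b hWU).symm
  have h1 : scal A X W a ∈ (Ideal.span (Set.range g) ^ m).map (scal A X W) := by
    have h2 : scal A X U.1.1 a ∈ ((Ideal.span (Set.range g)) ^ m).map (scal A X U.1.1) := by
      rw [Ideal.map_pow]
      have h3 : scal A X U.1.1 a ∈ (I.map (scal A X U.1.1)) ^ m := by
        rw [← Ideal.map_pow]; exact Ideal.mem_map_of_mem _ ha
      refine Ideal.pow_right_mono ?_ m h3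
      refine (hS' U.1).trans (Ideal.map_mono (Ideal.span_mono ?_))
      rw [hg]
      exact Finset.coe_subset.2 (Finset.subset_biUnion_of_mem S U.2)
    rw [hW, ← Ideal.map_map]
    exact Ideal.mem_map_of_mem _ h2
  rw [Scheme.Modules.Hom.app_smul]
  generalize scal A X W a = b at h1 ⊢
  induction h1 using Submodule.span_induction with
  | mem b hb =>
    obtain ⟨c, hc, rfl⟩ := hb
    rw [← Scheme.Modules.Hom.app_smul, ← HomSh.smulMod_app]
    exact ConcreteCategory.congr_hom (congrArg (fun t => Scheme.Modules.Hom.app t W) (hf c hc)) x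
  | zero => exact zero_smul _ _
  | add b c _ _ h h' => rw [add_smul, h, h', add_zero]
  | smul b c _ h => rw [smul_eq_mul, mul_smul, h, smul_zero]

end Groth.L09.FormalKer
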