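import Groth.Agent.L09.FormalKer.Basic

/-!
# Ideals with the same zero locus give equivalent categories of coherent formal modules
-/

set_option autoImplicit false
set_option linter.style.haveILetI false
set_option linter.unusedSectionVars false
set_option backward.isDefEq.respectTransparency false
set_option backward.isDefEq.respectTransparency.types false

universe u

open CategoryTheory CategoryTheory.Limits AlgebraicGeometry TopologicalSpace Opposite

noncomputable section

namespace Groth.L09.FormalKer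

open Formal (smulMod smulFamily modPow modPowπ)
open Groth.L16
open AffineBC (scal)

variable {A : Type u} [CommRing A] {X : Scheme.{u}} [X.Over (Spec (CommRingCat.of A))]

theorem mem_scal_iff {I : Ideal A} {U : X.Opens} (hU : IsAffineOpen U) (𝔭 : PrimeSpectrum Γ(X, U)) :
    I.map (scal A X U) ≤ 𝔭.asIdeal ↔
      (X ↘ Spec (CommRingCat.of A)) (hU.fromSpec 𝔭) ∈ PrimeSpectrum.zeroLocus (I : Set A) := by
  rw [PrimeSpectrum.mem_zeroLocus, Ideal.map_le_iff_le_comap]
  refine forall_congr' fun a => imp_congr_right fun _ => ?_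
  rw [Ideal.mem_comap, SetLike.mem_coe]
  refine (not_iff_not.1 ?_ : scal A X U a ∈ 𝔭.asIdeal ↔ a ∈ ((X ↘ Spec (CommRingCat.of A)) (hU.fromSpec 𝔭)).asIdeal)
  have h1 : (scal A X U a ∉ 𝔭.asIdeal) ↔ hU.fromSpec 𝔭 ∈ X.basicOpen (scal A X U a) := by
    rw [← PrimeSpectrum.mem_basicOpen, ← hU.fromSpec_preimage_basicOpen]
    rfl
  rw [h1]
  let t : Γ(X, ⊤) := (X ↘ Spec (CommRingCat.of A)).appTop ((Scheme.ΓSpecIso (CommRingCat.of A)).inv a)
  show hU.fromSpec 𝔭 ∈ X.basicOpen (X.presheaf.map (homOfLE (le_top : U ≤ ⊤)).op t) ↔ _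
  rw [Scheme.basicOpen_res]
  have hmem : hU.fromSpec 𝔭 ∈ U := hU.range_fromSpec.le ⟨𝔭, rfl⟩
  refine (and_iff_right hmem).trans ?_
  show hU.fromSpec 𝔭 ∈ X.basicOpen t ↔ _
  rw [show X.basicOpen t = (X ↘ Spec (CommRingCat.of A)) ⁻¹ᵁ (PrimeSpectrum.basicOpen a) by
    rw [show (PrimeSpectrum.basicOpen a : (Spec (CommRingCat.of A)).Opens) =
        (Spec (CommRingCat.of A)).basicOpen ((Scheme.ΓSpecIso (CommRingCat.of A)).inv a) from
      (basicOpen_eq_of_affine (R := CommRingCat.of A) a).symm]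
    exact (Scheme.preimage_basicOpen _ _).symm]
  rfl

variable [AlgebraicGeometry.IsNoetherian X]

/-- The topological hypothesis gives a bound on the exponents. -/
theorem exists_kills_of_zeroLocus {I J : Ideal A}
    (hV : (fun x : X => (X ↘ Spec (CommRingCat.of A)) x) ⁻¹' PrimeSpectrum.zeroLocus (I : Set A) =
      (fun x : X => (X ↘ Spec (CommRingCat.of A)) x) ⁻¹' PrimeSpectrum.zeroLocus (J : Set A)) :
    ∃ c, 1 ≤ c ∧ ∀ (m : ℕ) {M T : X.Modules} (f : M ⟶ T), Kills (J ^ m) f → Kills (I ^ (c * m)) f := by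
  classical
  obtain ⟨t, ht⟩ := HomSh.exists_finite_affine_cover X
  have hpow : ∀ U : X.affineOpens, ∃ c, (I.map (scal A X U.1)) ^ c ≤ J.map (scal A X U.1) := by
    intro U
    haveI : IsNoetherianRing Γ(X, U.1) := IsLocallyNoetherian.component_noetherian U
    refine Ideal.exists_pow_le_of_le_radical_of_fg ?_ (IsNoetherian.noetherian _)
    rw [Ideal.radical_eq_sInf]
    refine le_sInf fun 𝔭 h𝔭 => ?_
    exact (mem_scal_iff U.2 ⟨𝔭, h𝔭.2⟩).2 (hV.ge ((mem_scal_iff U.2 ⟨𝔭, h𝔭.2⟩).1 h𝔭.1))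
  choose c hc using hpow
  refine ⟨t.sup c + 1, Nat.le_add_left 1 _, fun m M T f hf a ha => ?_⟩
  refine Exist.hom_eq_zero_of_cover _ (fun U : t => U.1.1) (fun x => by
    obtain ⟨U, hU, hx⟩ := ht x; exact ⟨⟨U, hU⟩, hx⟩) fun U W _ hWU x => ?_
  show f.app W ((smulMod A M a).app W x) = 0
  rw [HomSh.smulMod_app]
  have hW : scal A X W = (X.presheaf.map (homOfLE hWU).op).hom.comp (scal A X U.1.1) :=
    RingHom.ext fun b => (Exist.scal_res b hWU).symm
  have h1 : scal A X W a ∈ (J ^ m).map (scal A X W) := by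
    have h2 : scal A X U.1.1 a ∈ (J ^ m).map (scal A X U.1.1) := by
      rw [Ideal.map_pow]
      have h3 : scal A X U.1.1 a ∈ (I.map (scal A X U.1.1)) ^ ((t.sup c + 1) * m) := by
        rw [← Ideal.map_pow]; exact Ideal.mem_map_of_mem _ ha
      rw [pow_mul] at h3
      refine Ideal.pow_right_mono ?_ m h3
      exact (Ideal.pow_le_pow_right ((Finset.le_sup U.2).trans (Nat.le_succ _))).trans (hc U.1)
    rw [hW, ← Ideal.map_map]
    exact Ideal.mem_map_of_mem _ h2
  rw [Scheme.Modules.Hom.app_smul]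
  generalize scal A X W a = b at h1 ⊢
  induction h1 using Submodule.span_induction with
  | mem b hb =>
    obtain ⟨c, hc, rfl⟩ := hb
    rw [← Scheme.Modules.Hom.app_smul, ← HomSh.smulMod_app]
    exact ConcreteCategory.congr_hom (congrArg (fun t => Scheme.Modules.Hom.app t W) (hf c hc)) x
  | zero => exact zero_smul _ _
  | add b c _ _ h h' => rw [add_smul, h, h', add_zero]
  | smul b c _ h => rw [smul_eq_mul, mul_smul, h, smul_zero]

omit [AlgebraicGeometry.IsNoetherian X] in
theorem isModQuot_modPowπ (I : Ideal A) (m : ℕ) (M : X.Modules) : IsModQuot (I ^ m) (modPowπ I m M) :=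
  ⟨fun _ ha => Existence.smulMod_modPow_eq_zero I M ha, Existence.epi_modPowπ I m M,
    fun _ ha => Rees.smulMod_modPowπ I M ha, fun _ t ht => Existence.modPow_desc I t ht⟩

omit [AlgebraicGeometry.IsNoetherian X] in
theorem IsModQuot.comp' {I K : Ideal A} {M N Q : X.Modules} {p : M ⟶ N} {q : N ⟶ Q}
    (hIK : ∀ {T : X.Modules} (t : M ⟶ T), Kills I t → Kills K t)
    (hp : IsModQuot K p) (hq : IsModQuot I q) : IsModQuot I (p ≫ q) := by
  haveI := hp.2.1
  haveI := hq.2.1
  refine ⟨hq.1, epi_comp _ _, fun a ha => ?_, fun T t ht => ?_⟩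
  · rw [← Category.assoc, Rees.smulMod_naturality, Category.assoc, hq.2.2.1 a ha, comp_zero]
  · obtain ⟨t', rfl⟩ := hp.2.2.2 T t (hIK t ht)
    obtain ⟨t'', rfl⟩ := hq.2.2.2 T t' fun a ha => by
      rw [← cancel_epi p, ← Category.assoc, ← Rees.smulMod_naturality, Category.assoc, ht a ha, comp_zero]
    exact ⟨t'', Category.assoc _ _ _⟩

omit [AlgebraicGeometry.IsNoetherian X] in
theorem IsModQuot.of_comp {I : Ideal A} {M N Q : X.Modules} {p : M ⟶ N} {q : N ⟶ Q} [Epi p]
    (h : IsModQuot I (p ≫ q)) : IsModQuot I q := by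
  haveI := h.2.1
  refine ⟨h.1, epi_of_epi p q, fun a ha => ?_, fun T t ht => ?_⟩
  · rw [Rees.smulMod_naturality, h.1 a ha, comp_zero]
  · obtain ⟨t', ht'⟩ := h.2.2.2 T (p ≫ t) fun a ha => by
      rw [← Category.assoc, Rees.smulMod_naturality, Category.assoc, ht a ha, comp_zero]
    exact ⟨t', (cancel_epi p).1 ((Category.assoc _ _ _).symm.trans ht')⟩

omit [AlgebraicGeometry.IsNoetherian X] in
/-- Two quotients by the same ideal are isomorphic. -/
theorem IsModQuot.isIso_of_comp_eq {I : Ideal A} {M Q Q' : X.Modules} {p : M ⟶ Q} {p' : M ⟶ Q'}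
    (hp : IsModQuot I p) (hp' : IsModQuot I p') (e : Q ⟶ Q') (he : p ≫ e = p') : IsIso e := by
  obtain ⟨e', he'⟩ := hp'.2.2.2 Q p hp.2.2.1
  haveI := hp.2.1
  haveI := hp'.2.1
  exact ⟨e', by rw [← cancel_epi p, reassoc_of% he, he', Category.comp_id],
    by rw [← cancel_epi p', reassoc_of% he', he, Category.comp_id]⟩

variable {I J : Ideal A}

omit [AlgebraicGeometry.IsNoetherian X] in
theorem isModQuot_map (G : Formal2.CohFormalCat I X) {n m : ℕ} (h : n ≤ m) :
    IsModQuot (I ^ (n + 1)) (G.obj.map (homOfLE h).op) := by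
  induction m, h using Nat.le_induction with
  | base =>
    rw [show (homOfLE (le_refl n)).op = 𝟙 (op n) from rfl, G.obj.map_id]
    exact IsModQuot.self (G.property.2.1 n)
  | succ m hm ih =>
    rw [show (homOfLE (Nat.le_succ_of_le hm)).op = (homOfLE (Nat.le_succ m)).op ≫ (homOfLE hm).op from rfl,
      G.obj.map_comp]
    exact IsModQuot.comp (Ideal.pow_le_pow_right (by omega))
      (isModQuot_of_isIso_desc _ (G.property.2.1 m) (G.property.2.2 m)) ih

variable {c : ℕ} (hc : ∀ (m : ℕ) {M T : X.Modules} (f : M ⟶ T), Kills (J ^ m) f → Kills (I ^ (c * m + 1)) f)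

/-- The terms of the system for the other ideal. -/
abbrev chObj (J : Ideal A) (c : ℕ) (G : Formal2.CohFormalCat I X) (n : ℕ) : X.Modules :=
  modPow J (n + 1) (G.obj.obj (op (c * (n + 1))))

omit [AlgebraicGeometry.IsNoetherian X] in
theorem mul_succ_le (c n : ℕ) : c * (n + 1) ≤ c * (n + 1 + 1) := Nat.mul_le_mul_left c (Nat.le_succ _)

/-- The map from a term of the original system. -/
abbrev chπ (J : Ideal A) (c : ℕ) (G : Formal2.CohFormalCat I X) (n : ℕ) :
    G.obj.obj (op (c * (n + 1 + 1))) ⟶ chObj J c G n :=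
  G.obj.map (homOfLE (mul_succ_le c n)).op ≫ modPowπ J (n + 1) _

omit [AlgebraicGeometry.IsNoetherian X] in
theorem exists_chTr (G : Formal2.CohFormalCat I X) (n : ℕ) :
    ∃ t : chObj J c G (n + 1) ⟶ chObj J c G n,
      modPowπ J (n + 1 + 1) _ ≫ t = chπ J c G n := by
  refine Existence.modPow_desc J _ fun b hb => ?_
  rw [← Category.assoc, Rees.smulMod_naturality, Category.assoc,
    Rees.smulMod_modPowπ J _ (Ideal.pow_le_pow_right (Nat.le_succ _) hb), comp_zero]

/-- The system for the other ideal. -/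
def chSys (J : Ideal A) (c : ℕ) (G : Formal2.CohFormalCat I X) : ℕᵒᵖ ⥤ X.Modules :=
  Functor.ofOpSequence (X := chObj J c G) fun n => (exists_chTr G n).choose

omit [AlgebraicGeometry.IsNoetherian X] in
theorem π_chSys (G : Formal2.CohFormalCat I X) (n : ℕ) :
    modPowπ J (n + 1 + 1) _ ≫ (chSys J c G).map (homOfLE (Nat.le_succ n)).op = chπ J c G n := by
  rw [show (chSys J c G).map (homOfLE (Nat.le_succ n)).op = (exists_chTr G n).choose from
    Functor.ofOpSequence_map_homOfLE_succ _ n]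
  exact (exists_chTr G n).choose_spec

include hc in
theorem isCohFormal_chSys (G : Formal2.CohFormalCat I X) : Formal.IsCohFormal J (chSys J c G) := by
  refine ⟨fun n => (Exist.modPow_spec J (G.property.1 _) (n + 1)).1,
    fun n => (isModQuot_modPowπ J (n + 1) _).1, fun n => isIso_desc_of_isModQuot _ ?_⟩
  haveI := Existence.epi_modPowπ J (n + 1 + 1) (G.obj.obj (op (c * (n + 1 + 1))))
  refine IsModQuot.of_comp (p := modPowπ J (n + 1 + 1) _) ?_
  rw [π_chSys]
  exact IsModQuot.comp' (fun t ht => hc (n + 1) t ht) (isModQuot_map G (mul_succ_le c n))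
    (isModQuot_modPowπ J (n + 1) _)

omit [AlgebraicGeometry.IsNoetherian X] in
theorem exists_chMap {G G' : Formal2.CohFormalCat I X} (f : G ⟶ G') (n : ℕ) :
    ∃ t : chObj J c G n ⟶ chObj J c G' n,
      modPowπ J (n + 1) _ ≫ t = f.hom.app (op (c * (n + 1))) ≫ modPowπ J (n + 1) _ := by
  refine Existence.modPow_desc J _ fun b hb => ?_
  rw [← Category.assoc, Rees.smulMod_naturality, Category.assoc, Rees.smulMod_modPowπ J _ hb, comp_zero]

/-- The functor to the other ideal. -/
def ch : Formal2.CohFormalCat I X ⥤ Formal2.CohFormalCat J X where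
  obj G := ⟨chSys J c G, isCohFormal_chSys hc G⟩
  map {G G'} f := ObjectProperty.homMk (NatTrans.ofOpSequence (F := chSys J c G) (G := chSys J c G')
    (fun n => (exists_chMap f n).choose) fun n => by
      haveI := Existence.epi_modPowπ J (n + 1 + 1) (G.obj.obj (op (c * (n + 1 + 1))))
      rw [← cancel_epi (modPowπ J (n + 1 + 1) _), reassoc_of% (π_chSys G n),
        (exists_chMap f n).choose_spec, reassoc_of% (exists_chMap f (n + 1)).choose_spec, π_chSys,
        NatTrans.naturality_assoc])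
  map_id G := InducedCategory.hom_ext (NatTrans.ext (funext fun ⟨n⟩ => by
    haveI := Existence.epi_modPowπ J (n + 1) (G.obj.obj (op (c * (n + 1))))
    exact (cancel_epi (modPowπ J (n + 1) _)).1 ((exists_chMap (𝟙 G) n).choose_spec.trans
      ((Category.id_comp _).trans (Category.comp_id _).symm))))
  map_comp {G G' G''} f g := InducedCategory.hom_ext (NatTrans.ext (funext fun ⟨n⟩ => by
    haveI := Existence.epi_modPowπ J (n + 1) (G.obj.obj (op (c * (n + 1))))
    refine (cancel_epi (modPowπ J (n + 1) _)).1 ((exists_chMap (f ≫ g) n).choose_spec.trans ?_)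
    show _ = modPowπ J (n + 1) _ ≫ (exists_chMap f n).choose ≫ (exists_chMap g n).choose
    rw [reassoc_of% (exists_chMap f n).choose_spec, (exists_chMap g n).choose_spec]
    exact Category.assoc _ _ _))

theorem ch_map_spec {G G' : Formal2.CohFormalCat I X} (f : G ⟶ G') (n : ℕ) :
    modPowπ J (n + 1) _ ≫ ((ch hc).map f).hom.app (op n) = f.hom.app (op (c * (n + 1))) ≫ modPowπ J (n + 1) _ :=
  (exists_chMap f n).choose_spec

omit [AlgebraicGeometry.IsNoetherian X] in
theorem π_chSys_le (G : Formal2.CohFormalCat I X) {n m : ℕ} (h : n ≤ m) :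
    modPowπ J (m + 1) _ ≫ (chSys J c G).map (homOfLE h).op =
      G.obj.map (homOfLE (Nat.mul_le_mul_left c (Nat.succ_le_succ h))).op ≫ modPowπ J (n + 1) _ := by
  induction m, h using Nat.le_induction with
  | base =>
    rw [show (homOfLE (le_refl n)).op = 𝟙 (op n) from rfl, CategoryTheory.Functor.map_id]
    rw [show (homOfLE (Nat.mul_le_mul_left c (Nat.succ_le_succ (le_refl n)))).op = 𝟙 (op (c * (n + 1))) from rfl,
      CategoryTheory.Functor.map_id, Category.id_comp]
    exact Category.comp_id _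
  | succ m hm ih =>
    rw [show (homOfLE (Nat.le_succ_of_le hm)).op = (homOfLE (Nat.le_succ m)).op ≫ (homOfLE hm).op from rfl,
      Functor.map_comp, ← Category.assoc, π_chSys, Category.assoc, ih, ← Category.assoc, ← Functor.map_comp]
    rfl

section Unit

variable {d : ℕ} (hd : ∀ (m : ℕ) {M T : X.Modules} (f : M ⟶ T), Kills (I ^ m) f → Kills (J ^ (d * m + 1)) f)
  (hc1 : 1 ≤ c) (hd1 : 1 ≤ d)

include hc1 hd1 in
omit [AlgebraicGeometry.IsNoetherian X] in
theorem le_cd (n : ℕ) : n ≤ c * (d * (n + 1) + 1) :=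
  le_trans (Nat.le_succ n) (le_trans (Nat.le_mul_of_pos_left (n + 1) hd1)
    (le_trans (Nat.le_succ _) (Nat.le_mul_of_pos_left _ hc1)))

/-- The map onto a term of the double system. -/
abbrev ddπ (G : Formal2.CohFormalCat I X) (n : ℕ) :
    G.obj.obj (op (c * (d * (n + 1) + 1))) ⟶ ((ch hc ⋙ ch hd).obj G).obj.obj (op n) :=
  modPowπ J (d * (n + 1) + 1) _ ≫ modPowπ I (n + 1) _

include hd in
theorem isModQuot_ddπ (G : Formal2.CohFormalCat I X) (n : ℕ) : IsModQuot (I ^ (n + 1)) (ddπ hc hd G n) :=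
  IsModQuot.comp' (fun t ht => hd (n + 1) t ht) (isModQuot_modPowπ J _ _) (isModQuot_modPowπ I (n + 1) _)

theorem ddπ_map (G : Formal2.CohFormalCat I X) (n : ℕ) :
    ddπ hc hd G (n + 1) ≫ ((ch hc ⋙ ch hd).obj G).obj.map (homOfLE (Nat.le_succ n)).op =
      G.obj.map (homOfLE (Nat.mul_le_mul_left c (Nat.succ_le_succ (mul_succ_le d n)))).op ≫ ddπ hc hd G n := by
  refine (Category.assoc _ _ _).trans ?_
  refine (congrArg (modPowπ J _ _ ≫ ·) (π_chSys ((ch hc).obj G) n)).trans ?_
  refine (Category.assoc _ _ _).symm.trans ?_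
  refine (congrArg (· ≫ modPowπ I (n + 1) _) (π_chSys_le G (mul_succ_le d n))).trans ?_
  exact Category.assoc _ _ _

include hc1 hd1 in
theorem exists_unitApp (G : Formal2.CohFormalCat I X) (n : ℕ) :
    ∃ e : ((ch hc ⋙ ch hd).obj G).obj.obj (op n) ⟶ G.obj.obj (op n),
      ddπ hc hd G n ≫ e = G.obj.map (homOfLE (le_cd hc1 hd1 n)).op :=
  (isModQuot_ddπ hc hd G n).2.2.2 _ _ (isModQuot_map G (le_cd hc1 hd1 n)).2.2.1

/-- Going to the other ideal and back. -/
def unitHom (G : Formal2.CohFormalCat I X) : ((ch hc ⋙ ch hd).obj G).obj ⟶ G.obj :=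
  NatTrans.ofOpSequence (fun n => (exists_unitApp hc hd hc1 hd1 G n).choose) fun n => by
    haveI := (isModQuot_ddπ hc hd G (n + 1)).2.1
    refine (cancel_epi (ddπ hc hd G (n + 1))).1 ?_
    refine (Category.assoc _ _ _).symm.trans ((congrArg (· ≫ _) (ddπ_map hc hd G n)).trans ?_)
    refine (Category.assoc _ _ _).trans ((congrArg (_ ≫ ·) (exists_unitApp hc hd hc1 hd1 G n).choose_spec).trans ?_)
    refine Eq.trans ?_ ((congrArg (· ≫ _) (exists_unitApp hc hd hc1 hd1 G (n + 1)).choose_spec).symm.trans (Category.assoc _ _ _))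
    rw [← Functor.map_comp, ← Functor.map_comp]
    rfl

theorem π_unitHom (G : Formal2.CohFormalCat I X) (n : ℕ) :
    ddπ hc hd G n ≫ (unitHom hc hd hc1 hd1 G).app (op n) = G.obj.map (homOfLE (le_cd hc1 hd1 n)).op :=
  (exists_unitApp hc hd hc1 hd1 G n).choose_spec

include hc1 hd1 in
theorem isIso_unitHom (G : Formal2.CohFormalCat I X) : IsIso (unitHom hc hd hc1 hd1 G) := by
  haveI : ∀ n : ℕᵒᵖ, IsIso ((unitHom hc hd hc1 hd1 G).app n) := fun ⟨n⟩ =>
    (isModQuot_ddπ hc hd G n).isIso_of_comp_eq (isModQuot_map G (le_cd hc1 hd1 n)) _ (π_unitHom hc hd hc1 hd1 G n)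
  exact NatIso.isIso_of_isIso_app _

/-- The round trip is the identity. -/
def unitIso : ch hc ⋙ ch hd ≅ 𝟭 (Formal2.CohFormalCat I X) :=
  NatIso.ofComponents
    (fun G => haveI := isIso_unitHom hc hd hc1 hd1 G; ObjectProperty.isoMk _ (asIso (unitHom hc hd hc1 hd1 G)))
    fun {G G'} f => InducedCategory.hom_ext (NatTrans.ext (funext fun ⟨n⟩ => by
      haveI := (isModQuot_ddπ hc hd G n).2.1
      refine (cancel_epi (ddπ hc hd G n)).1 ?_
      show ddπ hc hd G n ≫ ((ch hd).map ((ch hc).map f)).hom.app (op n) ≫ (unitHom hc hd hc1 hd1 G').app (op n) =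
        ddπ hc hd G n ≫ (unitHom hc hd hc1 hd1 G).app (op n) ≫ f.hom.app (op n)
      have h1 : ddπ hc hd G n ≫ ((ch hd).map ((ch hc).map f)).hom.app (op n) =
          f.hom.app (op (c * (d * (n + 1) + 1))) ≫ ddπ hc hd G' n := by
        refine (Category.assoc _ _ _).trans ((congrArg (_ ≫ ·) (ch_map_spec hd ((ch hc).map f) n)).trans ?_)
        refine (Category.assoc _ _ _).symm.trans ((congrArg (· ≫ _) (ch_map_spec hc f (d * (n + 1)))).trans ?_)
        exact Category.assoc _ _ _
      refine (Category.assoc _ _ _).symm.trans ((congrArg (· ≫ _) h1).trans ?_)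
      refine (Category.assoc _ _ _).trans ((congrArg (_ ≫ ·) (π_unitHom hc hd hc1 hd1 G' n)).trans ?_)
      refine Eq.trans ?_ ((congrArg (· ≫ _) (π_unitHom hc hd hc1 hd1 G n)).symm.trans (Category.assoc _ _ _))
      exact (f.hom.naturality _).symm))

end Unit

/-- Ideals with the same zero locus give equivalent categories. -/
theorem nonempty_equivalence {I J : Ideal A}
    (hV : (fun x : X => (X ↘ Spec (CommRingCat.of A)) x) ⁻¹' PrimeSpectrum.zeroLocus (I : Set A) =
      (fun x : X => (X ↘ Spec (CommRingCat.of A)) x) ⁻¹' PrimeSpectrum.zeroLocus (J : Set A)) :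
    Nonempty (Formal2.CohFormalCat I X ≌ Formal2.CohFormalCat J X) := by
  obtain ⟨c, hc1, hc⟩ := exists_kills_of_zeroLocus (I := I) (J := J) hV
  obtain ⟨d, hd1, hd⟩ := exists_kills_of_zeroLocus (I := J) (J := I) hV.symm
  have hc' : ∀ (m : ℕ) {M T : X.Modules} (f : M ⟶ T), Kills (J ^ m) f → Kills (I ^ (c * m + 1)) f :=
    fun m _ _ f hf => (hc m f hf).mono (Ideal.pow_le_pow_right (Nat.le_succ _))
  have hd' : ∀ (m : ℕ) {M T : X.Modules} (f : M ⟶ T), Kills (I ^ m) f → Kills (J ^ (d * m + 1)) f :=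
    fun m _ _ f hf => (hd m f hf).mono (Ideal.pow_le_pow_right (Nat.le_succ _))
  exact ⟨CategoryTheory.Equivalence.mk (ch hc') (ch hd') (unitIso hc' hd' hc1 hd1).symm (unitIso hd' hc' hd1 hc1)⟩

end Groth.L09.FormalKer
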