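import Groth.Agent.L09.FormalKer.Thick
import Groth.Agent.L09.FormalKer.Cofinal

/-!
# Flat morphisms which are isomorphisms over the closed subscheme give equivalent formal modules
-/

set_option autoImplicit false
set_option linter.style.haveILetI false
set_option linter.unusedSectionVars false
set_option backward.isDefEq.respectTransparency false
set_option backward.isDefEq.respectTransparency.types false

universe u

open CategoryTheory CategoryTheory.Limits AlgebraicGeometry TopologicalSpace Opposite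

noncomputable section

namespace Groth.L09.FormalKer

open Formal (smulMod smulFamily modPow modPowπ)
open Groth.L16

variable {A : Type u} [CommRing A] (I : Ideal A) {X X' : Scheme.{u}} [X.Over (Spec (CommRingCat.of A))]
  [X'.Over (Spec (CommRingCat.of A))] [AlgebraicGeometry.IsNoetherian X] [AlgebraicGeometry.IsNoetherian X']
  (f : X' ⟶ X) [Flat f] (hf : f ≫ (X ↘ Spec (CommRingCat.of A)) = X' ↘ Spec (CommRingCat.of A))
  (hZ : IsIso (pullback.map (X' ↘ Spec (CommRingCat.of A)) (CohB1.specQuot I 0)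
    (X ↘ Spec (CommRingCat.of A)) (CohB1.specQuot I 0) f (𝟙 _) (𝟙 _)
    ((Category.comp_id _).trans hf.symm) ((Category.comp_id _).trans (Category.id_comp _).symm)))
include hZ

theorem isIso_unit_of_killed (k : ℕ) {M : X.Modules} (hM : Coh.IsCoh M) (hk : Formal.KilledBy (I ^ (k + 1)) M) :
    IsIso ((Scheme.Modules.pullbackPushforwardAdjunction f).unit.app M) := by
  obtain ⟨W, hW, w, q, hS⟩ := exists_sameThick f hf hZ k
  letI := hW
  exact isIso_unit_same f hf hS hM hk

theorem isCoh_push_of_killed (k : ℕ) {N : X'.Modules} (hN : Coh.IsCoh N) (hk : Formal.KilledBy (I ^ (k + 1)) N) :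
    Coh.IsCoh ((Coh.push f).obj N) ∧ Formal.KilledBy (I ^ (k + 1)) ((Coh.push f).obj N) ∧
      IsIso ((Scheme.Modules.pullbackPushforwardAdjunction f).counit.app N) := by
  obtain ⟨W, hW, w, q, hS⟩ := exists_sameThick f hf hZ k
  letI := hW
  exact ⟨(isCoh_push_same f hf hS hN hk).1, (isCoh_push_same f hf hS hN hk).2, isIso_counit_same f hf hS hN hk⟩

/-- Pullback of formal modules is fully faithful. -/
theorem bijective_whiskerRight (G₁ G₂ : ℕᵒᵖ ⥤ X.Modules) (h₂ : Formal.IsCohFormal I G₂) :
    Function.Bijective (fun φ : G₁ ⟶ G₂ => Functor.whiskerRight φ (Scheme.Modules.pullback f)) := by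
  let adj := Scheme.Modules.pullbackPushforwardAdjunction f
  have hb : ∀ (M : X.Modules) (n : ℕᵒᵖ),
      Function.Bijective (fun φ : M ⟶ G₂.obj n => (Scheme.Modules.pullback f).map φ) := fun M n => by
    haveI := isIso_unit_of_killed I f hf hZ n.unop (h₂.1 n.unop) (h₂.2.1 n.unop)
    haveI : IsIso (adj.unit.app (G₂.obj n)) := this
    let e : (M ⟶ G₂.obj n) ≃ ((Scheme.Modules.pullback f).obj M ⟶ (Scheme.Modules.pullback f).obj (G₂.obj n)) :=
      ((asIso (adj.unit.app (G₂.obj n))).homToEquiv).trans (adj.homEquiv M ((Scheme.Modules.pullback f).obj _)).symm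
    have : (fun φ : M ⟶ G₂.obj n => (Scheme.Modules.pullback f).map φ) = e := funext fun φ => by
      show _ = (adj.homEquiv _ _).symm (φ ≫ adj.unit.app _)
      simp [Adjunction.homEquiv_counit]
    rw [this]
    exact e.bijective
  refine ⟨fun φ ψ h => NatTrans.ext (funext fun n => (hb _ n).1 (congrArg (fun t : G₁ ⋙ _ ⟶ G₂ ⋙ _ => t.app n) h)),
    fun Φ => ?_⟩
  choose φ hφ using fun n => (hb (G₁.obj n) n).2 (Φ.app n)
  refine ⟨{ app := φ, naturality := fun a b g => (hb _ b).1 ?_ }, NatTrans.ext (funext hφ)⟩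
  simp only [Functor.map_comp, hφ]
  exact Φ.naturality g

/-- Pullback of formal modules is essentially surjective. -/
theorem exists_pullback_iso (G' : ℕᵒᵖ ⥤ X'.Modules) (h' : Formal.IsCohFormal I G') :
    ∃ G : ℕᵒᵖ ⥤ X.Modules, Formal.IsCohFormal I G ∧ Nonempty (G ⋙ Scheme.Modules.pullback f ≅ G') := by
  let adj := Scheme.Modules.pullbackPushforwardAdjunction f
  let P := Scheme.Modules.pullback f
  haveI : P.Additive := adj.left_adjoint_additive
  let G := G' ⋙ Coh.push f
  have hG := fun n => isCoh_push_of_killed I f hf hZ n (h'.1 n) (h'.2.1 n)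
  haveI : ∀ n : ℕᵒᵖ, IsIso (adj.counit.app (G'.obj n)) := fun n => (hG n.unop).2.2
  let ε : G ⋙ P ≅ G' :=
    NatIso.ofComponents (fun n => asIso (adj.counit.app (G'.obj n))) fun g => adj.counit.naturality (G'.map g)
  refine ⟨G, ⟨fun n => (hG n).1, fun n => (hG n).2.1, fun n => ?_⟩, ⟨ε⟩⟩
  let tG : G.obj (op (n + 1)) ⟶ G.obj (op n) := G.map (homOfLE (Nat.le_succ n)).op
  have hk : Kills (I ^ (n + 1)) tG := fun a ha => by
    rw [Rees.smulMod_naturality]
    exact (congrArg (tG ≫ ·) ((hG n).2.1 a ha)).trans comp_zero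
  obtain ⟨r, hr⟩ := Existence.modPow_desc I tG hk
  let π := modPowπ I (n + 1) (G.obj (op (n + 1)))
  haveI := Existence.epi_modPowπ I (n + 1) (G.obj (op (n + 1)))
  haveI : P.IsLeftAdjoint := adj.isLeftAdjoint
  have hq : IsModQuot (I ^ (n + 1)) (P.map π) := by
    refine ⟨killedBy_pullback' f hf (isModQuot_modPowπ I _ _).1, inferInstance, fun a ha => ?_, fun T t ht => ?_⟩
    · rw [← Exist.pullback_smulMod f hf, ← Functor.map_comp, Rees.smulMod_modPowπ I _ ha, Functor.map_zero]
    · obtain ⟨t', ht'⟩ := Existence.modPow_desc I (adj.homEquiv _ _ t) fun a ha => by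
        have e : adj.homEquiv _ _ (smulMod A (P.obj (G.obj (op (n + 1)))) a ≫ t) =
            smulMod A (G.obj (op (n + 1))) a ≫ adj.homEquiv _ _ t := by
          rw [← Exist.pullback_smulMod f hf, adj.homEquiv_naturality_left]
        rw [← e, ht a ha, adj.homEquiv_unit, Functor.map_zero, comp_zero]
      refine ⟨(adj.homEquiv _ _).symm t', ?_⟩
      rw [← adj.homEquiv_naturality_left_symm]
      exact (congrArg _ ht').trans ((adj.homEquiv _ _).symm_apply_apply t)
  have h1 : IsModQuot (I ^ (n + 1)) (P.map tG ≫ adj.counit.app (G'.obj (op n))) := by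
    have h2 : P.map tG ≫ adj.counit.app (G'.obj (op n)) =
        adj.counit.app (G'.obj (op (n + 1))) ≫ G'.map (homOfLE (Nat.le_succ n)).op :=
      adj.counit.naturality (G'.map (homOfLE (Nat.le_succ n)).op)
    rw [h2]
    obtain ⟨hQ, hepi, hkq, hd⟩ := isModQuot_of_isIso_desc _ (h'.2.1 n) (h'.2.2 n)
    haveI := hepi
    refine ⟨hQ, epi_comp _ _, fun a ha => ?_, fun T t ht => ?_⟩
    · rw [← Category.assoc, Rees.smulMod_naturality, Category.assoc]
      exact (congrArg (adj.counit.app (G'.obj (op (n + 1))) ≫ ·) (hkq a ha)).trans comp_zero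
    · obtain ⟨t', ht'⟩ := hd T (inv (adj.counit.app (G'.obj (op (n + 1)))) ≫ t) fun a ha => by
        rw [← Category.assoc, Rees.smulMod_naturality, Category.assoc]
        exact (congrArg _ (ht a ha)).trans comp_zero
      exact ⟨t', by rw [Category.assoc, ht', IsIso.hom_inv_id_assoc]⟩
  haveI : IsIso (P.map r ≫ adj.counit.app (G'.obj (op n))) := by
    refine hq.isIso_of_comp_eq h1 _ ?_
    show P.map π ≫ P.map r ≫ _ = P.map tG ≫ _
    rw [← Category.assoc, ← Functor.map_comp, hr]
  haveI : IsIso (P.map r) := IsIso.of_isIso_comp_right _ (adj.counit.app (G'.obj (op n)))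
  haveI := isIso_unit_of_killed I f hf hZ n (M := modPow I (n + 1) (G.obj (op (n + 1))))
    (Exist.modPow_spec I (hG (n + 1)).1 (n + 1)).1 (isModQuot_modPowπ I _ _).1
  haveI := isIso_unit_of_killed I f hf hZ n (hG n).1 (hG n).2.1
  haveI hu : IsIso (adj.unit.app (modPow I (n + 1) (G.obj (op (n + 1))))) :=
    isIso_unit_of_killed I f hf hZ n (Exist.modPow_spec I (hG (n + 1)).1 (n + 1)).1 (isModQuot_modPowπ I _ _).1
  haveI hu' : IsIso (adj.unit.app (G.obj (op n))) := isIso_unit_of_killed I f hf hZ n (hG n).1 (hG n).2.1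
  have hn : r ≫ adj.unit.app (G.obj (op n)) = adj.unit.app _ ≫ (Coh.push f).map (P.map r) := adj.unit.naturality r
  haveI : IsIso (r ≫ adj.unit.app (G.obj (op n))) := by
    rw [hn]
    haveI : IsIso ((Coh.push f).map (P.map r)) := Functor.map_isIso _ _
    exact IsIso.comp_isIso
  haveI : IsIso r := IsIso.of_isIso_comp_right r (adj.unit.app (G.obj (op n)))
  refine isIso_desc_of_isModQuot _ ?_
  show IsModQuot (I ^ (n + 1)) tG
  obtain ⟨h0, h0e, h0k, h0d⟩ := isModQuot_modPowπ I (n + 1) (G.obj (op (n + 1)))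
  rw [← hr]
  refine ⟨(hG n).2.1, epi_comp _ _, fun a ha => by rw [← Category.assoc, h0k a ha, zero_comp], fun T t ht => ?_⟩
  obtain ⟨t', ht'⟩ := h0d T t ht
  exact ⟨inv r ≫ t', by rw [Category.assoc, IsIso.hom_inv_id_assoc, ht']⟩

end Groth.L09.FormalKer
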