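import Groth.Agent.L16.Exist.AlgComplete
import Groth.Agent.L16.Exist.ThickIso
import Groth.Agent.L12.Algz.Compl
import Groth.Agent.L17.ClosedPush
import Groth.Agent.S1318

/-!
# Flat morphisms which are isomorphisms over the closed subscheme: modules killed by powers of the ideal
-/

set_option autoImplicit false
set_option linter.style.haveILetI false
set_option linter.unusedSectionVars false
set_option backward.isDefEq.respectTransparency false
set_option backward.isDefEq.respectTransparency.types false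

universe u

open CategoryTheory CategoryTheory.Limits AlgebraicGeometry TopologicalSpace Opposite

noncomputable section

namespace Groth.L09.FormalKer

open Formal (smulMod modPow modPowπ)
open Groth.L16
open AffineBC (scal)

variable {A : Type u} [CommRing A] {I : Ideal A} {X : Scheme.{u}} [X.Over (Spec (CommRingCat.of A))]

/-- A module killed by a power of the ideal comes from the thickening, for an arbitrary base ring. -/
theorem isIso_unit_thick' [IsLocallyNoetherian X] {Z : Scheme.{u}} [Z.Over (Spec (CommRingCat.of A))]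
    {k : ℕ} {f : Z ⟶ X} [IsClosedImmersion f] {π : Z ⟶ Spec (CommRingCat.of (A ⧸ I ^ (k + 1)))}
    (h : IsPullback f π (X ↘ Spec (CommRingCat.of A)) (CohB1.specQuot I k)) {M : X.Modules} (hM : Coh.IsCoh M)
    (hk : Formal.KilledBy (I ^ (k + 1)) M) :
    IsIso ((Scheme.Modules.pullbackPushforwardAdjunction f).unit.app M) := by
  haveI : Coh.IsQCoh M := hM.1
  let η : M ⟶ (Coh.push f).obj ((Scheme.Modules.pullback f).obj M) :=
    (Scheme.Modules.pullbackPushforwardAdjunction f).unit.app M
  haveI : Epi η := ⟨fun u v huv => AffineBC.hom_ext_affine _ _ fun U hU m => by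
    obtain ⟨y, rfl⟩ := (Exist.ηU_spec f M ⟨U, hU⟩).1 m
    exact ConcreteCategory.congr_hom (congrArg (fun t => Scheme.Modules.Hom.app t U) huv) y⟩
  haveI : Mono η := Preadditive.mono_of_kernel_zero (AffineBC.hom_ext_affine _ _ fun U hU z => by
    show (kernel.ι η).app U z = 0
    have hz : η.app U ((kernel.ι η).app U z) = 0 :=
      ConcreteCategory.congr_hom (congrArg (fun t => Scheme.Modules.Hom.app t U) (kernel.condition η)) z
    have hmem := Submodule.smul_mono_left (Exist.Adic.ker_ideal_le h ⟨U, hU⟩) ((Exist.ηU_spec f M ⟨U, hU⟩).2 _ hz)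
    refine Submodule.smul_induction_on hmem ?_ ?_
    · intro b hb x _
      induction hb using Submodule.span_induction generalizing x with
      | mem y hy =>
        obtain ⟨t, ht, rfl⟩ := hy
        rw [← HomSh.smulMod_app, hk t ht]
        rfl
      | zero => rw [zero_smul]
      | add y y' _ _ h h' => rw [add_smul, h x trivial, h' x trivial, add_zero]
      | smul d y _ h => rw [smul_assoc, h x trivial, smul_zero]
    · intro x y hx hy
      rw [hx, hy, add_zero])
  exact isIso_of_mono_of_epi η

variable {X' : Scheme.{u}} [X'.Over (Spec (CommRingCat.of A))] (f : X' ⟶ X)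
  (hf : f ≫ (X ↘ Spec (CommRingCat.of A)) = X' ↘ Spec (CommRingCat.of A))

include hf in
theorem killedBy_pullback' {J : Ideal A} {M : X.Modules} (hk : Formal.KilledBy J M) :
    Formal.KilledBy J ((Scheme.Modules.pullback f).obj M) := fun b hb => by
  haveI : (Scheme.Modules.pullback f).Additive :=
    (Scheme.Modules.pullbackPushforwardAdjunction f).left_adjoint_additive
  rw [← Exist.pullback_smulMod f hf, hk b hb, Functor.map_zero]

/-- The morphism is the identity on the thickening of order `k`. -/
structure SameThick (I : Ideal A) (k : ℕ) (Z : Scheme.{u}) [Z.Over (Spec (CommRingCat.of A))] (i' : Z ⟶ X')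
    (π : Z ⟶ Spec (CommRingCat.of (A ⧸ I ^ (k + 1)))) : Prop where
  closed : IsClosedImmersion (i' ≫ f)
  closed' : IsClosedImmersion i'
  base : π ≫ CohB1.specQuot I k = Z ↘ Spec (CommRingCat.of A)
  cart : IsPullback (i' ≫ f) π (X ↘ Spec (CommRingCat.of A)) (CohB1.specQuot I k)
  cart' : IsPullback i' π (X' ↘ Spec (CommRingCat.of A)) (CohB1.specQuot I k)

variable {Z : Scheme.{u}} [Z.Over (Spec (CommRingCat.of A))] {k : ℕ} {i' : Z ⟶ X'}
  {π : Z ⟶ Spec (CommRingCat.of (A ⧸ I ^ (k + 1)))} [IsLocallyNoetherian X] [IsLocallyNoetherian X']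
  (hS : SameThick f I k Z i' π)

include hf hS

/-- The unit is an isomorphism on killed coherent modules. -/
theorem isIso_unit_same {M : X.Modules} (hM : Coh.IsCoh M) (hk : Formal.KilledBy (I ^ (k + 1)) M) :
    IsIso ((Scheme.Modules.pullbackPushforwardAdjunction f).unit.app M) := by
  haveI := hS.closed
  haveI := hS.closed'
  haveI hi := isIso_unit_thick' hS.cart hM hk
  haveI hi' := isIso_unit_thick' hS.cart' (AffineBC.isCoh_pullback f hM)
    (killedBy_pullback' f hf hk)
  obtain ⟨e, he⟩ := Exist.Adic.exists_unit_comp i' f M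
  haveI : IsIso ((Scheme.Modules.pullbackPushforwardAdjunction f).unit.app M ≫
      (Coh.push f).map ((Scheme.Modules.pullbackPushforwardAdjunction i').unit.app _) ≫ e.hom) := by
    rw [he]; exact hi
  exact IsIso.of_isIso_comp_right _
    ((Coh.push f).map ((Scheme.Modules.pullbackPushforwardAdjunction i').unit.app _) ≫ e.hom)

/-- Direct images of killed coherent modules. -/
theorem isCoh_push_same {N : X'.Modules} (hN : Coh.IsCoh N) (hk : Formal.KilledBy (I ^ (k + 1)) N) :
    Coh.IsCoh ((Coh.push f).obj N) ∧ Formal.KilledBy (I ^ (k + 1)) ((Coh.push f).obj N) := by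
  haveI := hS.closed
  haveI := hS.closed'
  haveI hi' := isIso_unit_thick' hS.cart' hN hk
  haveI : IsLocallyNoetherian Z := LocallyOfFiniteType.isLocallyNoetherian i'
  refine ⟨CohSupport.isCoh_of_iso ?_ (CohClosedPush.isCoh_push (i' ≫ f) (AffineBC.isCoh_pullback i' hN)),
    fun a ha => ?_⟩
  · exact ((Coh.push f).mapIso (asIso ((Scheme.Modules.pullbackPushforwardAdjunction i').unit.app N)) ≪≫
      (Scheme.Modules.pushforwardComp i' f).app _).symm
  · rw [Supp.smulMod_push f hf, hk a ha, Functor.map_zero]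

/-- The counit is an isomorphism on killed coherent modules. -/
theorem isIso_counit_same {N : X'.Modules} (hN : Coh.IsCoh N) (hk : Formal.KilledBy (I ^ (k + 1)) N) :
    IsIso ((Scheme.Modules.pullbackPushforwardAdjunction f).counit.app N) := by
  let adj := Scheme.Modules.pullbackPushforwardAdjunction f
  let adj' := Scheme.Modules.pullbackPushforwardAdjunction i'
  let ε := adj.counit.app N
  haveI := hS.closed
  haveI := hS.closed'
  obtain ⟨hP, hPk⟩ := isCoh_push_same f hf hS hN hk
  haveI hu := isIso_unit_same f hf hS hP hPk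
  haveI : IsIso ((Coh.push f).map ε) :=
    IsIso.of_isIso_fac_left (adj.right_triangle_components N)
  haveI hN' := isIso_unit_thick' hS.cart' hN hk
  haveI hP' := isIso_unit_thick' hS.cart' (AffineBC.isCoh_pullback f hP)
    (killedBy_pullback' f hf hPk)
  haveI : IsIso (adj'.unit.app ((Scheme.Modules.pushforward f ⋙ Scheme.Modules.pullback f).obj N)) := hP'
  let β := (Scheme.Modules.pullback i').map ε
  have hnat : ε ≫ adj'.unit.app N = adj'.unit.app _ ≫ (Coh.push i').map β := adj'.unit.naturality ε
  haveI : IsIso ((Coh.push f).map ((Coh.push i').map β)) := by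
    have h2 : (Coh.push f).map (adj'.unit.app ((Scheme.Modules.pullback f).obj ((Coh.push f).obj N))) ≫
        (Coh.push f).map ((Coh.push i').map β) = (Coh.push f).map ε ≫ (Coh.push f).map (adj'.unit.app N) := by
      refine ((Coh.push f).map_comp _ _).symm.trans ?_
      exact (congrArg (fun t => (Coh.push f).map t) hnat.symm).trans ((Coh.push f).map_comp _ _)
    haveI hfu : IsIso ((Coh.push f).map (adj'.unit.app N)) := Functor.map_isIso _ _
    haveI h3 : IsIso ((Coh.push f).map (adj'.unit.app ((Scheme.Modules.pullback f).obj ((Coh.push f).obj N)))) :=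
      Functor.map_isIso (Coh.push f) (adj'.unit.app ((Scheme.Modules.pullback f).obj ((Coh.push f).obj N)))
    haveI h4 : IsIso ((Coh.push f).map ε ≫ (Coh.push f).map (adj'.unit.app N)) := IsIso.comp_isIso
    exact @IsIso.of_isIso_fac_left _ _ _ _ _ _ _ _ h3 h4 h2
  haveI : IsIso ((Coh.push (i' ≫ f)).map β) := by
    haveI h1 : IsIso ((Coh.push i' ⋙ Coh.push f).map β) := this
    exact (NatIso.isIso_map_iff (Scheme.Modules.pushforwardComp i' f) β).1 h1
  haveI := Groth.L17.ClosedPush.isIso_counit (i' ≫ f)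
  haveI := (Scheme.Modules.pullbackPushforwardAdjunction (i' ≫ f)).fullyFaithfulROfIsIsoCounit.full
  haveI := (Scheme.Modules.pullbackPushforwardAdjunction (i' ≫ f)).fullyFaithfulROfIsIsoCounit.faithful
  haveI : IsIso β := isIso_of_fully_faithful (Coh.push (i' ≫ f)) β
  haveI : IsIso (ε ≫ adj'.unit.app N) := by
    rw [hnat]
    infer_instance
  exact IsIso.of_isIso_comp_right ε (adj'.unit.app N)

omit hS in
omit [IsLocallyNoetherian X] [IsLocallyNoetherian X'] [Z.Over (Spec (CommRingCat.of A))] in
/-- A flat morphism which is an isomorphism over the closed subscheme is one over its thickenings. -/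
theorem exists_sameThick [Flat f]
    (hZ : IsIso (pullback.map (X' ↘ Spec (CommRingCat.of A)) (CohB1.specQuot I 0)
      (X ↘ Spec (CommRingCat.of A)) (CohB1.specQuot I 0) f (𝟙 _) (𝟙 _)
      ((Category.comp_id _).trans hf.symm) ((Category.comp_id _).trans (Category.id_comp _).symm))) (k : ℕ) :
    ∃ (W : Scheme.{u}) (_ : W.Over (Spec (CommRingCat.of A))) (w : W ⟶ X')
      (q : W ⟶ Spec (CommRingCat.of (A ⧸ I ^ (k + 1)))), SameThick f I k W w q := by
  haveI hq : ∀ n, IsClosedImmersion (CohB1.specQuot I n) := fun n =>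
    Exist.Adic.isClosedImmersion_specQuot I n
  let W : ℕ → Scheme.{u} := fun n => pullback (X' ↘ Spec (CommRingCat.of A)) (CohB1.specQuot I n)
  let V : ℕ → Scheme.{u} := fun n => pullback (X ↘ Spec (CommRingCat.of A)) (CohB1.specQuot I n)
  let φ : ∀ n, W n ⟶ V n := fun n => pullback.map _ _ _ _ f (𝟙 _) (𝟙 _)
      ((Category.comp_id _).trans hf.symm) ((Category.comp_id _).trans (Category.id_comp _).symm)
  have hφ₁ : ∀ n, φ n ≫ pullback.fst _ _ = pullback.fst _ _ ≫ f := fun n => pullback.lift_fst _ _ _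
  have hφ₂ : ∀ n, φ n ≫ pullback.snd _ _ = pullback.snd _ _ := fun n =>
    (pullback.lift_snd _ _ _).trans (Category.comp_id _)
  have hcart : ∀ n, IsPullback (pullback.fst _ _ : W n ⟶ X') (φ n) f (pullback.fst _ _) := fun n => by
    refine IsPullback.of_bot ?_ (hφ₁ n).symm (IsPullback.of_hasPullback (X ↘ Spec (CommRingCat.of A)) (CohB1.specQuot I n))
    rw [hφ₂, hf]
    exact IsPullback.of_hasPullback _ _
  haveI : Flat (φ k) := MorphismProperty.of_isPullback (P := @Flat) (hcart k) inferInstance
  let t : Spec (CommRingCat.of (A ⧸ I ^ (0 + 1))) ⟶ Spec (CommRingCat.of (A ⧸ I ^ (k + 1))) :=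
    Spec.map (CommRingCat.ofHom (Ideal.Quotient.factor (Ideal.pow_le_pow_right (show 0 + 1 ≤ k + 1 by omega))))
  have ht : t ≫ CohB1.specQuot I k = CohB1.specQuot I 0 := by
    refine (Spec.map_comp _ _).symm.trans ?_
    rfl
  let iY : V 0 ⟶ V k := pullback.map _ _ _ _ (𝟙 _) t (𝟙 _) (by simp) ((Category.comp_id _).trans ht.symm)
  let iX : W 0 ⟶ W k := pullback.map _ _ _ _ (𝟙 _) t (𝟙 _) (by simp) ((Category.comp_id _).trans ht.symm)
  have hiY : iY ≫ pullback.fst _ _ = pullback.fst _ _ :=
    (pullback.lift_fst _ _ _).trans (Category.comp_id _)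
  have hiX : iX ≫ pullback.fst _ _ = pullback.fst _ _ :=
    (pullback.lift_fst _ _ _).trans (Category.comp_id _)
  have hw : iX ≫ φ k = φ 0 ≫ iY := by
    apply pullback.hom_ext
    · rw [Category.assoc, Category.assoc, hφ₁, reassoc_of% hiX, hiY, hφ₁]
    · rw [Category.assoc, Category.assoc, hφ₂, pullback.lift_snd, pullback.lift_snd, reassoc_of% hφ₂]
  have hcX : IsPullback iX (φ 0) (φ k) iY := by
    refine IsPullback.of_right ?_ hw (hcart k)
    rw [hiX, hiY]
    exact hcart 0
  letI : (V k).Over (Spec (CommRingCat.of A)) := ⟨pullback.fst _ _ ≫ (X ↘ Spec (CommRingCat.of A))⟩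
  haveI hck : IsClosedImmersion (pullback.fst _ _ : V k ⟶ X) :=
    MorphismProperty.of_isPullback (P := @IsClosedImmersion) (IsPullback.of_hasPullback _ _).flip (hq k)
  haveI hc0 : IsClosedImmersion (pullback.fst _ _ : V 0 ⟶ X) :=
    MorphismProperty.of_isPullback (P := @IsClosedImmersion) (IsPullback.of_hasPullback _ _).flip (hq 0)
  have h0 : IsPullback iY (pullback.snd _ _) ((V k) ↘ Spec (CommRingCat.of A)) (CohB1.specQuot I 0) := by
    have w : iY ≫ ((V k) ↘ Spec (CommRingCat.of A)) = pullback.snd _ _ ≫ CohB1.specQuot I 0 := by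
      show iY ≫ pullback.fst _ _ ≫ _ = _
      rw [reassoc_of% hiY, pullback.condition]
    refine IsPullback.of_isLimit' ⟨w⟩ (PullbackCone.IsLimit.mk w
      (fun s => pullback.lift (s.fst ≫ pullback.fst _ _) s.snd ((Category.assoc _ _ _).trans s.condition))
      (fun s => ?_) (fun s => pullback.lift_snd _ _ _) fun s m h1 h2 => ?_)
    · rw [← cancel_mono (pullback.fst _ _ : V k ⟶ X), Category.assoc, hiY]
      exact pullback.lift_fst _ _ _
    · apply pullback.hom_ext
      · rw [pullback.lift_fst, ← h1, Category.assoc, hiY]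
      · rw [pullback.lift_snd, h2]
  have hS : MoreMor.IsFiniteOrderThickening iY := by
    haveI : IsClosedImmersion (iY ≫ (pullback.fst _ _ : V k ⟶ X)) := by rw [hiY]; exact hc0
    haveI hcl : IsClosedImmersion iY := IsClosedImmersion.of_comp iY (pullback.fst _ _)
    refine ⟨⟨hcl, ⟨fun v => ?_⟩⟩, k + 1, ?_⟩
    · have hr : (pullback.fst _ _ : V k ⟶ X) v ∈ Set.range (pullback.fst _ _ : V 0 ⟶ X) := by
        rw [Exist.Adic.range_of_cart (IsPullback.of_hasPullback _ _),
          ← Exist.Adic.range_of_cart (n := k) (IsPullback.of_hasPullback _ _)]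
        exact ⟨v, rfl⟩
      obtain ⟨v₀, hv₀⟩ := hr
      refine ⟨v₀, (pullback.fst _ _ : V k ⟶ X).isClosedEmbedding.injective ?_⟩
      rw [← Scheme.Hom.comp_apply, hiY, hv₀]
    · refine Scheme.IdealSheafData.ext (funext fun U => ?_)
      rw [Scheme.IdealSheafData.ideal_pow]
      refine le_bot_iff.1 ((Ideal.pow_right_mono (Exist.Adic.ker_ideal_le h0 U) (k + 1)).trans ?_)
      rw [zero_add, pow_one, ← Ideal.map_pow, Ideal.map_le_iff_le_comap]
      intro a ha
      exact Exist.Adic.scal_eq_zero (pullback.snd _ _) (pullback.condition).symm ha _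
  haveI : Flat (φ k ≫ 𝟙 (V k)) := by rw [Category.comp_id]; infer_instance
  haveI hiso : IsIso (φ k) :=
    (Groth.Agent.S1318.result iX iY iY (φ 0) (φ k) (𝟙 _) (𝟙 _) hS (by simpa using hcX)
      (IsPullback.of_vert_isIso ⟨(Category.comp_id _).trans (Category.id_comp _).symm⟩) hw).1 hZ
  refine ⟨W k, ⟨pullback.fst _ _ ≫ (X' ↘ Spec (CommRingCat.of A))⟩, pullback.fst _ _, pullback.snd _ _, ?_⟩
  letI : (W k).Over (Spec (CommRingCat.of A)) := ⟨pullback.fst _ _ ≫ (X' ↘ Spec (CommRingCat.of A))⟩
  have hcart1 : IsPullback ((pullback.fst _ _ : W k ⟶ X') ≫ f) (pullback.snd _ _) (X ↘ Spec (CommRingCat.of A)) (CohB1.specQuot I k) :=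
    IsPullback.of_iso (IsPullback.of_hasPullback _ _) (asIso (φ k)).symm (Iso.refl _) (Iso.refl _) (Iso.refl _)
      (by simp [← hφ₁]) (by simp [← hφ₂]) (by simp) (by simp)
  exact ⟨MorphismProperty.of_isPullback (P := @IsClosedImmersion) hcart1.flip (hq k),
    MorphismProperty.of_isPullback (P := @IsClosedImmersion) (IsPullback.of_hasPullback _ _).flip (hq k),
    (pullback.condition).symm, hcart1, IsPullback.of_hasPullback _ _⟩

end Groth.L09.FormalKer
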